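import Groth.Agent.Perfn.Ring
import Mathlib.CategoryTheory.Presentable.Finite
import Mathlib.FieldTheory.IsPerfectClosure
import Mathlib.RingTheory.FinitePresentation
import Mathlib.Algebra.Category.Ring.Basic

/-!
# Finitely presentable perfect algebras are perfectly finitely presented
-/

set_option autoImplicit false
set_option backward.isDefEq.respectTransparency false

universe u

open CategoryTheory Limits

noncomputable section

namespace Groth.Agent.PerfFP

/-- the perfect algebras over `B` -/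
abbrev prop (p : ℕ) (B : CommRingCat.{u}) : ObjectProperty (Under B) :=
  fun Y : Under B => (p : Y.right) = 0 ∧ Function.Bijective fun y : Y.right => y ^ p

variable {p : ℕ} {B : CommRingCat.{u}}

/-- the underlying ring map -/
abbrev rh {X Y : (prop p B).FullSubcategory} (f : X ⟶ Y) : X.obj.right →+* Y.obj.right :=
  f.hom.right.hom

theorem rh_w {X Y : (prop p B).FullSubcategory} (f : X ⟶ Y) (b : B) :
    rh f (X.obj.hom.hom b) = Y.obj.hom.hom b :=
  RingHom.congr_fun (congrArg CommRingCat.Hom.hom (Under.w f.hom)) b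

theorem rh_comp {X Y Z : (prop p B).FullSubcategory} (f : X ⟶ Y) (g : Y ⟶ Z) (x : X.obj.right) :
    rh (f ≫ g) x = rh g (rh f x) :=
  rfl

/-- a morphism from a ring map over `B` -/
def mkHom {X Y : (prop p B).FullSubcategory} (g : X.obj.right →+* Y.obj.right)
    (hg : g.comp X.obj.hom.hom = Y.obj.hom.hom) : X ⟶ Y :=
  ObjectProperty.homMk (Under.homMk (CommRingCat.ofHom g) (CommRingCat.hom_ext hg))

theorem hom_ext_rh {X Y : (prop p B).FullSubcategory} {f g : X ⟶ Y} (h : ∀ x, rh f x = rh g x) : f = g :=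
  ObjectProperty.hom_ext _ (Under.UnderMorphism.ext (CommRingCat.hom_ext (RingHom.ext h)))

/-- a directed cocone which is a colimit on underlying sets is a colimit -/
theorem nonempty_isColimit {J : Type u} [Preorder J] [IsFiltered J] {D : J ⥤ (prop p B).FullSubcategory}
    (c : Cocone D) (hsurj : ∀ a : c.pt.obj.right, ∃ j x, rh (c.ι.app j) x = a)
    (hinj : ∀ j (x : (D.obj j).obj.right), rh (c.ι.app j) x = 0 → ∃ (k : J) (h : j ⟶ k), rh (D.map h) x = 0) :
    Nonempty (IsColimit c) := by
  have hw : ∀ (s : Cocone D) {j k : J} (h : j ⟶ k) (x : (D.obj j).obj.right),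
      rh (s.ι.app k) (rh (D.map h) x) = rh (s.ι.app j) x := fun s j k h x => by
    rw [← rh_comp, s.w]
    rfl
  have key : ∀ (s : Cocone D) {j k : J} (x : (D.obj j).obj.right) (y : (D.obj k).obj.right),
      rh (c.ι.app j) x = rh (c.ι.app k) y → rh (s.ι.app j) x = rh (s.ι.app k) y := fun s j k x y hxy => by
    let l := IsFiltered.max j k
    obtain ⟨m, h, hm⟩ := hinj l (rh (D.map (IsFiltered.leftToMax j k)) x - rh (D.map (IsFiltered.rightToMax j k)) y)
      (by rw [map_sub, hw, hw, hxy, sub_self])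
    have := congrArg (rh (s.ι.app m)) hm
    rwa [hw, map_sub, hw, hw, map_zero, sub_eq_zero] at this
  choose J' X' hX' using hsurj
  have common : ∀ a b, ∃ (j : J) (x y : (D.obj j).obj.right),
      rh (c.ι.app j) x = a ∧ rh (c.ι.app j) y = b := fun a b =>
    ⟨_, rh (D.map (IsFiltered.leftToMax (J' a) (J' b))) (X' a),
      rh (D.map (IsFiltered.rightToMax (J' a) (J' b))) (X' b), by rw [hw, hX'], by rw [hw, hX']⟩
  let dsc : ∀ s : Cocone D, c.pt.obj.right → s.pt.obj.right := fun s a => rh (s.ι.app (J' a)) (X' a)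
  have hd : ∀ (s : Cocone D) j (x : (D.obj j).obj.right), dsc s (rh (c.ι.app j) x) = rh (s.ι.app j) x :=
    fun s j x => key s _ _ (hX' _)
  obtain ⟨j₀⟩ : Nonempty J := IsFiltered.nonempty
  refine ⟨{ desc := fun s => mkHom
              { toFun := dsc s
                map_one' := by rw [← map_one (rh (c.ι.app j₀)), hd, map_one]
                map_zero' := by rw [← map_zero (rh (c.ι.app j₀)), hd, map_zero]
                map_add' := fun a b => by
                  obtain ⟨j, x, y, rfl, rfl⟩ := common a b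
                  erw [← map_add, hd, hd, hd, map_add]
                map_mul' := fun a b => by
                  obtain ⟨j, x, y, rfl, rfl⟩ := common a b
                  erw [← map_mul, hd, hd, hd, map_mul] } ?_
            fac := fun s j => hom_ext_rh fun x => hd s j x
            uniq := fun s m hm => hom_ext_rh fun a => ?_ }⟩
  · refine RingHom.ext fun b => ?_
    show dsc s (c.pt.obj.hom.hom b) = _
    have h1 := rh_w (c.ι.app j₀) b
    exact (congrArg (dsc s) h1.symm).trans ((hd s j₀ _).trans (rh_w (s.ι.app j₀) b))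
  · show rh m a = dsc s a
    refine (congrArg (rh m) (hX' a).symm).trans ?_
    exact congrArg (fun f => rh f (X' a)) (hm (J' a))

variable [hp : Fact p.Prime]

theorem eq_of_pow {C : Type u} [CommRing C] (hC : Function.Bijective fun x : C => x ^ p) {R : Type u} [CommRing R]
    {Q : Type u} [CommRing Q] (ψ : R →+* Q) (hψ : ∀ s, ∃ n a, s ^ p ^ n = ψ a) (f g : Q →+* C)
    (h : f.comp ψ = g.comp ψ) : f = g :=
  RingHom.ext fun s => by
    obtain ⟨n, a, ha⟩ := hψ s
    exact (Perfn.pow_pow_bijective hC n).1 (show f s ^ p ^ n = g s ^ p ^ n by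
      rw [← map_pow, ← map_pow, ha]; exact RingHom.congr_fun h a)

theorem roots_subring {A R : Type u} [CommRing A] [CommRing R] (hp0 : (p : A) = 0) (φ : R →+* A) :
    ∃ S : Subring A, ∀ a, a ∈ S ↔ ∃ n r, a ^ p ^ n = φ r := by
  have hsub : ∀ {a b : A}, (∃ n r, a ^ p ^ n = φ r) → (∃ n r, b ^ p ^ n = φ r) → ∃ n r, (a - b) ^ p ^ n = φ r := by
    rintro a b ⟨n, r, hr⟩ ⟨m, t, ht⟩
    refine ⟨n + m, r ^ p ^ m - t ^ p ^ n, ?_⟩
    rw [Perfn.sub_pow_pow hp0, map_sub, map_pow, map_pow, ← hr, ← ht, ← pow_mul, ← pow_mul, ← pow_add, ← pow_add,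
      add_comm m n]
  have hzero : ∃ n r, (0 : A) ^ p ^ n = φ r := ⟨0, 0, by simp⟩
  refine ⟨{ carrier := {a | ∃ n r, a ^ p ^ n = φ r}
            one_mem' := ⟨0, 1, by simp⟩
            mul_mem' := ?_
            zero_mem' := hzero
            neg_mem' := fun {a} ha => by simpa using hsub hzero ha
            add_mem' := fun {a b} ha hb => by simpa using hsub ha (hsub hzero hb) }, fun a => Iff.rfl⟩
  rintro a b ⟨n, r, hr⟩ ⟨m, t, ht⟩
  refine ⟨n + m, r ^ p ^ m * t ^ p ^ n, ?_⟩
  rw [mul_pow, map_mul, map_pow, map_pow, ← hr, ← ht, ← pow_mul, ← pow_mul, ← pow_add, ← pow_add, add_comm m n]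

/-- evaluation of polynomials at the elements of a finite set -/
abbrev evS (A : (prop p B).FullSubcategory) (s : Finset A.obj.right) : MvPolynomial s B →+* A.obj.right :=
  MvPolynomial.eval₂Hom A.obj.hom.hom Subtype.val

theorem exists_gen (A : (prop p B).FullSubcategory) [IsFinitelyPresentable.{u} A] :
    ∃ s : Finset A.obj.right, ∀ a, ∃ n r, a ^ p ^ n = evS A s r := by
  classical
  choose S hS using fun s : Finset A.obj.right => roots_subring A.property.1 (evS A s)
  have hmono : ∀ {s t : Finset A.obj.right}, s ≤ t → S s ≤ S t := fun {s t} hst a ha => by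
    obtain ⟨n, r, hr⟩ := (hS s a).1 ha
    refine (hS t a).2 ⟨n, MvPolynomial.rename (fun x : s => (⟨x.1, hst x.2⟩ : t)) r, ?_⟩
    rw [hr, evS, MvPolynomial.coe_eval₂Hom, MvPolynomial.coe_eval₂Hom, MvPolynomial.eval₂_rename]
    rfl
  have hB : ∀ s b, A.obj.hom.hom b ∈ S s := fun s b => (hS s _).2 ⟨0, MvPolynomial.C b, by simp [evS]⟩
  let D : Finset A.obj.right ⥤ (prop p B).FullSubcategory :=
    { obj := fun s => ⟨Under.mk (CommRingCat.ofHom (A.obj.hom.hom.codRestrict (S s) (hB s))),
        Subtype.ext (by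
          show ((p : S s) : A.obj.right) = _
          rw [Subring.coe_natCast, A.property.1]; rfl),
        fun x y h => Subtype.ext (A.property.2.1 (congrArg Subtype.val h)),
        fun (x : S s) => by
          obtain ⟨a, ha⟩ := A.property.2.2 x.1
          obtain ⟨n, r, hr⟩ := (hS s _).1 x.2
          exact ⟨(⟨a, (hS s a).2 ⟨n + 1, r, by rw [pow_succ', pow_mul, show a ^ p = x.1 from ha, hr]⟩⟩ : S s),
            Subtype.ext ha⟩⟩
      map := fun {s t} h => mkHom (Subring.inclusion (hmono (leOfHom h))) rfl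
      map_id := fun s => hom_ext_rh fun x => rfl
      map_comp := fun {s t u} _ _ => hom_ext_rh fun x => rfl }
  let c : Cocone D :=
    { pt := A
      ι := { app := fun s => mkHom (X := D.obj s) (Y := A) (S s).subtype rfl
             naturality := fun s t h => hom_ext_rh fun x => rfl } }
  obtain ⟨hc⟩ := nonempty_isColimit c
    (fun a => ⟨{a}, ⟨a, (hS _ a).2 ⟨0, MvPolynomial.X ⟨a, Finset.mem_singleton_self a⟩, by simp [evS]⟩⟩, rfl⟩)
    (fun s (x : S s) hx => ⟨s, 𝟙 s, Subtype.ext (show (x.1 : A.obj.right) = 0 from hx)⟩)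
  obtain ⟨s, q, hq⟩ := IsFinitelyPresentable.exists_hom_of_isColimit hc (𝟙 A)
  refine ⟨s, fun a => (hS s a).1 ?_⟩
  let qa : S s := rh q a
  have hqa : qa.1 = a := congrArg (fun f => rh f a) hq
  exact hqa ▸ qa.2

theorem exists_model (hpB : (p : B) = 0) (A : (prop p B).FullSubcategory) [IsFinitelyPresentable.{u} A] :
    ∃ (A₀ : Type u) (_ : CommRing A₀) (_ : Algebra B A₀) (_ : Algebra.FinitePresentation B A₀)
      (k : A₀ →+* A.obj.right), k.comp (algebraMap B A₀) = A.obj.hom.hom ∧ IsPRadical k p := by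
  classical
  obtain ⟨s, hs⟩ := exists_gen A
  let φ := evS A s
  have hφC : φ.comp MvPolynomial.C = A.obj.hom.hom := RingHom.ext fun b => by simp [φ, evS]
  let K := {f : MvPolynomial s B // φ f = 0}
  let I : Finset K → Ideal (MvPolynomial s B) := fun T => Ideal.span ((Subtype.val : K → _) '' (T : Set K))
  have hI : ∀ T, I T ≤ RingHom.ker φ := fun T => Ideal.span_le.2 (by rintro _ ⟨f, -, rfl⟩; exact f.2)
  have hq0 : ∀ T, (p : MvPolynomial s B ⧸ I T) = 0 := fun T =>
    Perfn.natCast_eq_zero_of_hom ((Ideal.Quotient.mk (I T)).comp MvPolynomial.C) hpB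
  choose Q rQ ψ hbij hroot hker huniv using fun T : Finset K =>
    Perfn.exists_closure (MvPolynomial s B ⧸ I T) p (hq0 T)
  letI : ∀ T, CommRing (Q T) := rQ
  -- kernel of the presentation
  have hψI : ∀ T, ∀ f : K, f ∈ T → (ψ T).comp (Ideal.Quotient.mk (I T)) f.1 = 0 := fun T f hf => by
    have h : f.1 ∈ I T := Ideal.subset_span (Set.mem_image_of_mem Subtype.val (show f ∈ (T : Set K) from hf))
    rw [RingHom.comp_apply, Ideal.Quotient.eq_zero_iff_mem.2 h, map_zero]
  let η : ∀ T, MvPolynomial s B →+* Q T := fun T => (ψ T).comp (Ideal.Quotient.mk (I T))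
  have hηroot : ∀ T (x : Q T), ∃ n r, x ^ p ^ n = η T r := fun T x => by
    obtain ⟨n, a, h⟩ := hroot T x
    obtain ⟨r, rfl⟩ := Ideal.Quotient.mk_surjective a
    exact ⟨n, r, h⟩
  have hlift : ∀ T (C : Type u) [CommRing C] (g : MvPolynomial s B →+* C),
      Function.Bijective (fun x : C => x ^ p) → (∀ f : K, f ∈ T → g f.1 = 0) →
      ∃ h : Q T →+* C, h.comp (η T) = g := fun T C _ g hC hg => by
    obtain ⟨h, hh⟩ := huniv T C (Ideal.Quotient.lift (I T) g fun x hx =>
      Ideal.span_le.2 (show _ ⊆ ((RingHom.ker g : Ideal _) : Set (MvPolynomial s B)) by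
        rintro _ ⟨f, hf, rfl⟩; exact hg f hf) hx) hC
    exact ⟨h, RingHom.ext fun r => RingHom.congr_fun hh (Ideal.Quotient.mk (I T) r)⟩
  choose π hπ using fun T => hlift T A.obj.right φ A.property.2 fun f _ => f.2
  choose t ht using fun T U (h : T ≤ U) => hlift T (Q U) (η U) (hbij U) fun f hf => hψI U f (h hf)
  let D : Finset K ⥤ (prop p B).FullSubcategory :=
    { obj := fun T => ⟨Under.mk (CommRingCat.ofHom ((η T).comp MvPolynomial.C)),
        Perfn.natCast_eq_zero_of_hom ((η T).comp MvPolynomial.C) hpB, hbij T⟩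
      map := fun {T U} h => mkHom (t T U (leOfHom h))
        (by show (t T U _).comp ((η T).comp MvPolynomial.C) = _; rw [← RingHom.comp_assoc, ht]; rfl)
      map_id := fun T => hom_ext_rh (RingHom.congr_fun (eq_of_pow (hbij T) (η T) (hηroot T) _ _
        ((ht T T le_rfl).trans (RingHom.id_comp _).symm)))
      map_comp := fun {T U V} h h' => hom_ext_rh (RingHom.congr_fun (eq_of_pow (hbij V) (η T) (hηroot T) _
        ((t U V (leOfHom h')).comp (t T U (leOfHom h)))
        (show (t T V (leOfHom (h ≫ h'))).comp (η T) = ((t U V (leOfHom h')).comp (t T U (leOfHom h))).comp (η T) by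
          simp only [RingHom.comp_assoc, ht]))) }
  let c : Cocone D :=
    { pt := A
      ι := { app := fun T => mkHom (X := D.obj T) (Y := A) (π T)
               (by show (π T).comp ((η T).comp MvPolynomial.C) = _; rw [← RingHom.comp_assoc, hπ]; exact hφC)
             naturality := fun T U h => hom_ext_rh (RingHom.congr_fun (eq_of_pow A.property.2 (η T) (hηroot T)
               ((π U).comp (t T U (leOfHom h))) (π T) (by rw [RingHom.comp_assoc, ht, hπ, hπ]))) } }
  have hker' : ∀ T (x : Q T), π T x = 0 → ∃ (U : Finset K) (h : T ≤ U), t T U h x = 0 := fun T x hx => by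
    obtain ⟨n, r, hr⟩ := hηroot T x
    have hφr : φ r = 0 := by
      rw [← hπ T, RingHom.comp_apply, ← hr, map_pow, hx, zero_pow (pow_pos hp.out.pos n).ne']
    refine ⟨insert ⟨r, hφr⟩ T, Finset.subset_insert _ _, (Perfn.pow_pow_bijective (hbij _) n).1 ?_⟩
    let U := insert (⟨r, hφr⟩ : K) T
    show t T U (Finset.subset_insert _ _) x ^ p ^ n = 0 ^ p ^ n
    rw [zero_pow (pow_pos hp.out.pos n).ne', ← map_pow, hr]
    exact (RingHom.congr_fun (ht T U _) r).trans (hψI U ⟨r, hφr⟩ (Finset.mem_insert_self _ _))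
  obtain ⟨hc⟩ := nonempty_isColimit c
    (fun a => by
      obtain ⟨n, r, hr⟩ := hs a
      obtain ⟨x, hx⟩ := (Perfn.pow_pow_bijective (hbij ∅) n).2 (η ∅ r)
      refine ⟨∅, x, (Perfn.pow_pow_bijective A.property.2 n).1 ?_⟩
      show π ∅ x ^ p ^ n = a ^ p ^ n
      rw [← map_pow, show x ^ p ^ n = _ from hx, hr]
      exact RingHom.congr_fun (hπ ∅) r)
    (fun T x hx => by obtain ⟨U, h, hU⟩ := hker' T x hx; exact ⟨U, homOfLE h, hU⟩)
  obtain ⟨T, q, hq⟩ := IsFinitelyPresentable.exists_hom_of_isColimit hc (𝟙 A)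
  let g : A.obj.right →+* Q T := rh q
  have hg : ∀ a, π T (g a) = a := fun a => congrArg (fun f => rh f a) hq
  choose U hU hU0 using fun i : s => hker' T (g i.1 - η T (MvPolynomial.X i)) (by
    rw [map_sub, hg, ← RingHom.comp_apply, hπ]
    simp [φ, evS])
  let V : Finset K := T ⊔ Finset.univ.sup U
  have hTV : T ≤ V := le_sup_left
  have hUV : ∀ i, U i ≤ V := fun i => (Finset.le_sup (Finset.mem_univ i)).trans le_sup_right
  have hinv : ∀ x, t T V hTV (g (π V x)) = x := RingHom.congr_fun
    (eq_of_pow (hbij V) (η V) (hηroot V) (((t T V hTV).comp g).comp (π V)) (RingHom.id _) (by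
      refine MvPolynomial.ringHom_ext (fun b => ?_) (fun i => ?_)
      · show t T V hTV (g ((π V).comp (η V) (MvPolynomial.C b))) = η V (MvPolynomial.C b)
        rw [hπ, ← RingHom.comp_apply φ, hφC, show g (A.obj.hom.hom b) = η T (MvPolynomial.C b) from rh_w q b]
        exact RingHom.congr_fun (ht T V hTV) _
      · show t T V hTV (g ((π V).comp (η V) (MvPolynomial.X i))) = η V (MvPolynomial.X i)
        have h2 : t T V hTV = (t (U i) V (hUV i)).comp (t T (U i) (hU i)) :=
          eq_of_pow (hbij V) (η T) (hηroot T) _ _ (by rw [RingHom.comp_assoc, ht, ht, ht])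
        rw [hπ, show φ (MvPolynomial.X i) = i.1 by simp [φ, evS], ← RingHom.congr_fun (ht T V hTV), h2,
          RingHom.comp_apply, RingHom.comp_apply, ← sub_eq_zero, RingHom.comp_apply, ← map_sub, ← map_sub, hU0, map_zero]))
  let k : MvPolynomial s B ⧸ I V →+* A.obj.right := (π V).comp (ψ V)
  refine ⟨MvPolynomial s B ⧸ I V, inferInstance, inferInstance,
    Algebra.FinitePresentation.quotient (Submodule.fg_span (Set.Finite.image _ V.finite_toSet)), k, ?_, ?_⟩
  · exact RingHom.ext fun b => (RingHom.congr_fun (hπ V) (MvPolynomial.C b)).trans (RingHom.congr_fun hφC b)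
  · refine ⟨fun a => ?_, fun x hx => ?_⟩
    · obtain ⟨n, r, hr⟩ := hs a
      exact ⟨n, Ideal.Quotient.mk _ r, (RingHom.congr_fun (hπ V) r).trans hr.symm⟩
    · have h0 : ψ V x = 0 := by
        rw [← hinv (ψ V x), show π V (ψ V x) = 0 from hx, map_zero, map_zero]
      rw [pNilradical_eq_nilradical hp.out.one_lt]
      exact hker V x h0

end Groth.Agent.PerfFP
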